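import Groth.Prelude.Def_LefPen
import Mathlib.RingTheory.MvPolynomial.EulerIdentity
import Mathlib.RingTheory.MvPolynomial.Homogeneous
import Mathlib.LinearAlgebra.Dual.Lemmas
import Mathlib.LinearAlgebra.FiniteDimensional.Lemmas

/-! Forms tangent to two linear subspaces at two points. -/

universe u

open MvPolynomial

noncomputable section

namespace Groth.L28.Tangency

variable {k : Type u} [Field k] {r : ℕ}

local notation "V" => (Fin (r + 1) → k)
local notation "P" => MvPolynomial (Fin (r + 1)) k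

/-- The differential at a point. -/
def dmap (v : V) : P →ₗ[k] Module.Dual k V :=
  LinearMap.mk₂ k (fun G w => ∑ i, w i * aeval v (pderiv i G))
    (fun G G' w => by simp [mul_add, Finset.sum_add_distrib])
    (fun c G w => by simp only [Derivation.map_smul, map_smul, smul_eq_mul, Finset.mul_sum]; exact Finset.sum_congr rfl fun i _ => by ring)
    (fun G w w' => by simp [add_mul, Finset.sum_add_distrib])
    (fun c G w => by simp [Finset.mul_sum, mul_assoc])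

theorem dmap_apply (v : V) (G : P) (w : V) : dmap v G w = ∑ i, w i * aeval v (pderiv i G) := rfl

theorem dmap_mul (v : V) (p q : P) (w : V) :
    dmap v (p * q) w = aeval v p * dmap v q w + aeval v q * dmap v p w := by
  simp only [dmap_apply, Finset.mul_sum, ← Finset.sum_add_distrib]
  refine Finset.sum_congr rfl fun i _ => ?_
  rw [Derivation.leibniz, map_add, smul_eq_mul, smul_eq_mul, map_mul, map_mul]
  ring

theorem dmap_C (v : V) (c : k) (w : V) : dmap v (C c) w = 0 := by simp [dmap_apply]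

theorem dmap_pow (v : V) (p : P) (n : ℕ) (w : V) :
    dmap v (p ^ n) w = (n : k) * aeval v p ^ (n - 1) * dmap v p w := by
  induction n with
  | zero => rw [pow_zero, ← C_1, dmap_C]; simp
  | succ n ih =>
    rw [pow_succ, dmap_mul, ih, map_pow, Nat.add_sub_cancel]
    rcases n with _ | n
    · simp
    · rw [Nat.add_sub_cancel, pow_succ]; push_cast; ring

/-- The polynomial of a linear form. -/
def lp (l : Module.Dual k V) : P := ∑ i, C (l (Pi.single i 1)) * X i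

theorem aeval_lp (l : Module.Dual k V) (v : V) : aeval v (lp l) = l v := by
  conv_rhs => rw [pi_eq_sum_univ' v, map_sum]
  simp [lp, mul_comm]

theorem dmap_lp (l : Module.Dual k V) (v w : V) : dmap v (lp l) w = l w := by
  conv_rhs => rw [pi_eq_sum_univ' w, map_sum]
  simp only [lp, map_sum, LinearMap.sum_apply, dmap_mul, dmap_C, mul_zero, add_zero]
  refine Finset.sum_congr rfl fun i _ => ?_
  rw [map_smul, smul_eq_mul, aeval_C, dmap_apply, Finset.sum_eq_single i]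
  · simp [mul_comm]
  · intro j _ hj; simp [pderiv_X, hj, Ne.symm hj]
  · simp

theorem isHomogeneous_lp (l : Module.Dual k V) : (lp l).IsHomogeneous 1 :=
  IsHomogeneous.sum _ _ 1 fun i _ => IsHomogeneous.C_mul (isHomogeneous_X k i) _

theorem dmap_self {d : ℕ} {G : P} (hG : G.IsHomogeneous d) (v : V) : dmap v G v = (d : k) * aeval v G := by
  have h := congrArg (aeval v) hG.sum_X_mul_pderiv
  simp only [map_sum, map_mul, aeval_X, map_natCast, nsmul_eq_mul] at h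
  rw [dmap_apply]; exact h

theorem dmap_symm {G : P} (hG : G.IsHomogeneous 2) (v w : V) : dmap v G w = dmap w G v := by
  have hlin : ∀ p ∈ homogeneousSubmodule (Fin (r + 1)) k 1, ∀ a b : V, dmap a p b = aeval b p := fun p hp a b => by
    rw [homogeneousSubmodule_one_eq_span_X] at hp
    induction hp using Submodule.span_induction with
    | mem x hx =>
      obtain ⟨i, rfl⟩ := hx
      rw [dmap_apply, Finset.sum_eq_single i]
      · simp
      · intro j _ hj; simp [pderiv_X, hj, Ne.symm hj]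
      · simp
    | zero => simp
    | add x y _ _ hx hy => simp [hx, hy]
    | smul c x _ hx => simp [hx]
  have hG' : G ∈ homogeneousSubmodule (Fin (r + 1)) k 1 * homogeneousSubmodule (Fin (r + 1)) k 1 := by
    rw [← pow_two, homogeneousSubmodule_one_pow]; exact hG
  clear hG
  induction hG' using Submodule.mul_induction_on' with
  | mem_mul_mem p hp q hq =>
    rw [dmap_mul, dmap_mul, hlin p hp, hlin q hq, hlin p hp, hlin q hq]; ring
  | add p _ q _ hp hq => simp [hp, hq]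

variable (d : ℕ)

/-- Reduced tangency data. -/
def T (W₁ W₂ : Submodule k V) (v₁ v₂ : V) :
    LefPen.Form r k d →ₗ[k] (k × Module.Dual k W₁) × (k × Module.Dual k W₂) :=
  LinearMap.prod
    (LinearMap.prod ((aeval v₁).toLinearMap ∘ₗ (CohB1.polyGrading r k d).subtype)
      (W₁.subtype.dualMap ∘ₗ dmap v₁ ∘ₗ (CohB1.polyGrading r k d).subtype))
    (LinearMap.prod ((aeval v₂).toLinearMap ∘ₗ (CohB1.polyGrading r k d).subtype)
      (W₂.subtype.dualMap ∘ₗ dmap v₂ ∘ₗ (CohB1.polyGrading r k d).subtype))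

theorem mem_ker_tangLin (W : Submodule k V) (v : V) (G : LefPen.Form r k d) :
    G ∈ LinearMap.ker (LefPen.tangLin k W v) ↔ aeval v G.1 = 0 ∧ ∀ w ∈ W, dmap v G.1 w = 0 := by
  simp only [LinearMap.mem_ker, LefPen.tangLin, LinearMap.prod_apply, Prod.ext_iff, Prod.fst_zero, Prod.snd_zero,
    funext_iff, Function.prod, LinearMap.pi_apply, LinearMap.sum_apply, LinearMap.smul_apply, LinearMap.comp_apply,
    AlgHom.toLinearMap_apply, Submodule.subtype_apply, smul_eq_mul, Pi.zero_apply, Subtype.forall, dmap_apply]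
  exact Iff.rfl

theorem dual_pair {v₁ v₂ : V} (hv : LinearIndependent k ![v₁, v₂]) :
    ∃ l : Module.Dual k V, l v₁ = 1 ∧ l v₂ = 0 := by
  have h : v₁ ∉ Submodule.span k {v₂} := fun h => by
    obtain ⟨c, hc⟩ := Submodule.mem_span_singleton.1 h
    have := LinearIndependent.pair_iff.1 hv 1 (-c) (by rw [← hc]; simp)
    exact one_ne_zero this.1
  obtain ⟨f, hf1, hf2⟩ := Submodule.exists_dual_map_eq_bot_of_notMem h inferInstance
  have hf2' : f v₂ = 0 := by
    have : f v₂ ∈ (Submodule.span k {v₂}).map f := Submodule.mem_map_of_mem (Submodule.mem_span_singleton_self v₂)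
    rwa [hf2, Submodule.mem_bot] at this
  exact ⟨(f v₁)⁻¹ • f, by simp [hf1], by simp [hf2']⟩

theorem side_first {d : ℕ} (c : k) (l m : Module.Dual k V) (v w : V) (h1 : l v = 1) (h2 : m v = 0) :
    aeval v (C c * lp l ^ d + lp l ^ (d - 1) * lp m) = c ∧
      dmap v (C c * lp l ^ d + lp l ^ (d - 1) * lp m) w = c * d * l w + m w := by
  constructor
  · simp only [map_add, map_mul, map_pow, aeval_C, Algebra.algebraMap_self_apply, aeval_lp, h1, h2, one_pow,
      mul_one, mul_zero, add_zero]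
  · simp only [map_add, LinearMap.add_apply, dmap_mul, dmap_pow, dmap_C, dmap_lp, aeval_C,
      Algebra.algebraMap_self_apply, map_pow, aeval_lp, h1, h2, one_pow, mul_zero, zero_mul, add_zero, mul_one,
      one_mul]
    ring

theorem side_second {d : ℕ} (hd : 2 ≤ d) (c : k) (l m : Module.Dual k V) (v w : V) (h1 : l v = 0) :
    aeval v (C c * lp l ^ d + lp l ^ (d - 1) * lp m) = 0 ∧
      dmap v (C c * lp l ^ d + lp l ^ (d - 1) * lp m) w = (if d = 2 then m v else 0) * l w := by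
  constructor
  · simp only [map_add, map_mul, map_pow, aeval_lp, h1, zero_pow (show d ≠ 0 by omega),
      zero_pow (show d - 1 ≠ 0 by omega), mul_zero, zero_mul, add_zero]
  · rcases Nat.lt_or_ge d 3 with h | h
    · obtain rfl : d = 2 := by omega
      simp only [map_add, LinearMap.add_apply, dmap_mul, dmap_pow, dmap_C, dmap_lp, map_pow, aeval_lp, h1]
      simp
    · simp only [map_add, LinearMap.add_apply, dmap_mul, dmap_pow, dmap_C, dmap_lp, map_pow, aeval_lp, h1,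
        zero_pow (show d ≠ 0 by omega), zero_pow (show d - 1 ≠ 0 by omega), zero_pow (show d - 1 - 1 ≠ 0 by omega),
        if_neg (show d ≠ 2 by omega), mul_zero, zero_mul, add_zero]

/-- A form with prescribed data at the first point. -/
theorem exists_side (hd : 2 ≤ d) (W₁ W₂ : Submodule k V) (v₁ v₂ : V) (h₁ : v₁ ∈ W₁) (l₁ : Module.Dual k V)
    (h11 : l₁ v₁ = 1) (h12 : l₁ v₂ = 0) (x : k × Module.Dual k (W₁ ⊓ LinearMap.ker l₁ : Submodule k V)) :
    ∃ (G : LefPen.Form r k d) (t : k),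
      T d (W₁ ⊓ LinearMap.ker l₁) W₂ v₁ v₂ G = (x, (0, W₂.subtype.dualMap (t • l₁))) ∧
      (3 ≤ d ∨ v₂ ∉ W₁ → t = 0) ∧
      (∀ h : v₂ ∈ W₁, d = 2 → t = x.2 ⟨v₂, h, LinearMap.mem_ker.2 h12⟩) := by
  classical
  let U : Submodule k V := W₁ ⊓ LinearMap.ker l₁
  obtain ⟨m₀, hm₀⟩ := LinearMap.exists_extend x.2
  have hl : ∀ w ∈ U, l₁ w = 0 := fun w hw => LinearMap.mem_ker.1 hw.2
  obtain ⟨m, hmU, hm1, hm2⟩ : ∃ m : Module.Dual k V, (∀ w : U, m w = x.2 w) ∧ m v₁ = 0 ∧ (v₂ ∉ W₁ → m v₂ = 0) := by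
    let m₁ := m₀ - m₀ v₁ • l₁
    have e1 : ∀ w : U, m₁ w = x.2 w := fun w => by
      have h := LinearMap.congr_fun hm₀ w
      simp only [LinearMap.comp_apply, Submodule.subtype_apply] at h
      simp [m₁, hl w.1 w.2, h]
    have e2 : m₁ v₁ = 0 := by simp [m₁, h11]
    by_cases hm : v₂ ∈ W₁
    · exact ⟨m₁, e1, e2, fun h => absurd hm h⟩
    · obtain ⟨f, hf1, hf2⟩ := Submodule.exists_dual_map_eq_bot_of_notMem hm inferInstance
      have hf : ∀ w ∈ W₁, f w = 0 := fun w hw => by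
        have : f w ∈ W₁.map f := Submodule.mem_map_of_mem hw
        rwa [hf2, Submodule.mem_bot] at this
      refine ⟨m₁ - (m₁ v₂ / f v₂) • f, fun w => ?_, ?_, fun _ => ?_⟩
      · simp [e1 w, hf w.1 w.2.1]
      · simp [e2, hf v₁ h₁]
      · simp [div_mul_cancel₀ _ hf1]
  refine ⟨⟨C x.1 * lp l₁ ^ d + lp l₁ ^ (d - 1) * lp m, ?_⟩, if d = 2 then m v₂ else 0, ?_, ?_, ?_⟩
  · refine (mem_homogeneousSubmodule d _).2 (IsHomogeneous.add ?_ ?_)
    · simpa using IsHomogeneous.C_mul ((isHomogeneous_lp l₁).pow d) x.1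
    · have := ((isHomogeneous_lp l₁).pow (d - 1)).mul (isHomogeneous_lp m)
      rwa [show 1 * (d - 1) + 1 = d by omega] at this
  · exact Prod.ext
      (Prod.ext (side_first x.1 l₁ m v₁ 0 h11 hm1).1 (LinearMap.ext fun w =>
        (side_first x.1 l₁ m v₁ w.1 h11 hm1).2.trans (by rw [hl w.1 w.2, mul_zero, zero_add]; exact hmU w)))
      (Prod.ext (side_second hd x.1 l₁ m v₂ 0 h12).1
        (LinearMap.ext fun w => (side_second hd x.1 l₁ m v₂ w.1 h12).2))
  · intro h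
    split_ifs with hd2
    · exact hm2 (h.resolve_left (by omega))
    · rfl
  · intro h hd2
    rw [if_pos hd2]
    exact hmU ⟨v₂, h, LinearMap.mem_ker.2 h12⟩

theorem T_swap (W₁ W₂ : Submodule k V) (v₁ v₂ : V) (G : LefPen.Form r k d) :
    T d W₂ W₁ v₂ v₁ G = (T d W₁ W₂ v₁ v₂ G).swap := rfl

theorem range_T (hd : 2 ≤ d) (W₁ W₂ : Submodule k V) (v₁ v₂ : V) (h₁ : v₁ ∈ W₁) (h₂ : v₂ ∈ W₂)
    (l₁ l₂ : Module.Dual k V) (h11 : l₁ v₁ = 1) (h12 : l₁ v₂ = 0) (h22 : l₂ v₂ = 1) (h21 : l₂ v₁ = 0)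
    (h : 3 ≤ d ∨ ¬ (v₂ ∈ W₁ ∧ v₁ ∈ W₂)) :
    LinearMap.range (T d (W₁ ⊓ LinearMap.ker l₁) (W₂ ⊓ LinearMap.ker l₂) v₁ v₂) = ⊤ := by
  let R := LinearMap.range (T d (W₁ ⊓ LinearMap.ker l₁) (W₂ ⊓ LinearMap.ker l₂) v₁ v₂)
  have hA : ∀ x, ∃ z, (x, z) ∈ R ∧ ((3 ≤ d ∨ v₂ ∉ W₁) → z = 0) := fun x => by
    obtain ⟨G, t, hG, ht, -⟩ := exists_side d hd W₁ (W₂ ⊓ LinearMap.ker l₂) v₁ v₂ h₁ l₁ h11 h12 x
    exact ⟨_, ⟨G, hG⟩, fun h => by rw [ht h]; simp⟩
  have hB : ∀ y, ∃ z, (z, y) ∈ R ∧ ((3 ≤ d ∨ v₁ ∉ W₂) → z = 0) := fun y => by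
    obtain ⟨G, t, hG, ht, -⟩ := exists_side d hd W₂ (W₁ ⊓ LinearMap.ker l₁) v₂ v₁ h₂ l₂ h22 h21 y
    exact ⟨_, ⟨G, (T_swap d _ _ _ _ G).trans (congrArg Prod.swap hG)⟩, fun h => by rw [ht h]; simp⟩
  rw [_root_.eq_top_iff]
  rintro ⟨x, y⟩ -
  by_cases hc : 3 ≤ d ∨ v₂ ∉ W₁
  · obtain ⟨z, hz, -⟩ := hB y
    obtain ⟨z', hz', hz0⟩ := hA (x - z)
    rw [hz0 hc] at hz'
    have := R.add_mem hz' hz
    rwa [Prod.mk_add_mk, sub_add_cancel, zero_add] at this
  · push Not at hc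
    have hc' : v₁ ∉ W₂ := fun h' => (h.resolve_left (by omega)) ⟨hc.2, h'⟩
    obtain ⟨z, hz, -⟩ := hA x
    obtain ⟨z', hz', hz0⟩ := hB (y - z)
    rw [hz0 (Or.inr hc')] at hz'
    have := R.add_mem hz hz'
    rwa [Prod.mk_add_mk, add_sub_cancel, add_zero] at this

/-- The compatibility of the data when the line lies in both subspaces. -/
def chi (U₁ U₂ : Submodule k V) (a : U₁) (b : U₂) : (k × Module.Dual k U₁) × (k × Module.Dual k U₂) →ₗ[k] k :=
  (LinearMap.applyₗ a ∘ₗ LinearMap.snd k k _) ∘ₗ LinearMap.fst k _ _ -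
    (LinearMap.applyₗ b ∘ₗ LinearMap.snd k k _) ∘ₗ LinearMap.snd k _ _

theorem chi_apply (U₁ U₂ : Submodule k V) (a : U₁) (b : U₂) (z) : chi U₁ U₂ a b z = z.1.2 a - z.2.2 b := rfl

theorem range_T_two (W₁ W₂ : Submodule k V) (v₁ v₂ : V) (h₁ : v₁ ∈ W₁) (h₂ : v₂ ∈ W₂)
    (l₁ l₂ : Module.Dual k V) (h11 : l₁ v₁ = 1) (h12 : l₁ v₂ = 0) (h22 : l₂ v₂ = 1) (h21 : l₂ v₁ = 0)
    (hv₂ : v₂ ∈ W₁) (hv₁ : v₁ ∈ W₂) :
    LinearMap.range (T 2 (W₁ ⊓ LinearMap.ker l₁) (W₂ ⊓ LinearMap.ker l₂) v₁ v₂) =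
      LinearMap.ker (chi (W₁ ⊓ LinearMap.ker l₁) (W₂ ⊓ LinearMap.ker l₂) ⟨v₂, hv₂, LinearMap.mem_ker.2 h12⟩
        ⟨v₁, hv₁, LinearMap.mem_ker.2 h21⟩) := by
  apply le_antisymm
  · rintro _ ⟨G, rfl⟩
    rw [LinearMap.mem_ker, chi_apply, sub_eq_zero]
    exact dmap_symm ((mem_homogeneousSubmodule 2 _).1 G.2) v₁ v₂
  · rintro ⟨x, ⟨b, ν⟩⟩ hz
    rw [LinearMap.mem_ker, chi_apply, sub_eq_zero] at hz
    obtain ⟨G, t, hG, -, ht⟩ := exists_side 2 le_rfl W₁ (W₂ ⊓ LinearMap.ker l₂) v₁ v₂ h₁ l₁ h11 h12 x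
    obtain ⟨G', t', hG', -, ht'⟩ := exists_side 2 le_rfl W₂ (W₁ ⊓ LinearMap.ker l₁) v₂ v₁ h₂ l₂ h22 h21
      (b, ν - (W₂ ⊓ LinearMap.ker l₂).subtype.dualMap (t • l₁))
    have ht0 : t' = 0 := by
      rw [ht' hv₁ rfl]
      show ν _ - t * l₁ v₁ = 0
      rw [h11, mul_one, ht hv₂ rfl]
      exact sub_eq_zero.2 hz.symm
    refine ⟨G + G', ?_⟩
    rw [map_add, hG, T_swap 2 (W₂ ⊓ LinearMap.ker l₂) (W₁ ⊓ LinearMap.ker l₁) v₂ v₁ G', hG', ht0]
    simp

theorem ker_T (W₁ W₂ : Submodule k V) (v₁ v₂ : V) (h₁ : v₁ ∈ W₁) (h₂ : v₂ ∈ W₂)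
    (l₁ l₂ : Module.Dual k V) (h11 : l₁ v₁ = 1) (h22 : l₂ v₂ = 1) :
    LinearMap.ker (T d (W₁ ⊓ LinearMap.ker l₁) (W₂ ⊓ LinearMap.ker l₂) v₁ v₂) =
      LefPen.tangentForms k d W₁ v₁ W₂ v₂ := by
  ext G
  have key : ∀ (W : Submodule k V) (v : V) (l : Module.Dual k V), v ∈ W → l v = 1 →
      ((aeval v G.1 = 0 ∧ (W ⊓ LinearMap.ker l).subtype.dualMap (dmap v G.1) = 0) ↔
        (aeval v G.1 = 0 ∧ ∀ w ∈ W, dmap v G.1 w = 0)) := by
    intro W v l hvW hl
    refine and_congr_right fun h0 => ⟨fun h w hw => ?_, fun h => LinearMap.ext fun w => h w.1 w.2.1⟩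
    have h1 : w - l w • v ∈ W ⊓ LinearMap.ker l :=
      ⟨W.sub_mem hw (W.smul_mem _ hvW), LinearMap.mem_ker.2 (by simp [hl])⟩
    have h2 := LinearMap.congr_fun h ⟨_, h1⟩
    simp only [LinearMap.dualMap_apply, Submodule.subtype_apply, map_sub, map_smul, LinearMap.zero_apply,
      dmap_self ((mem_homogeneousSubmodule d _).1 G.2) v, h0, mul_zero, smul_zero, sub_zero] at h2
    exact h2
  rw [LefPen.tangentForms, Submodule.mem_inf, mem_ker_tangLin, mem_ker_tangLin, ← key W₁ v₁ l₁ h₁ h11,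
    ← key W₂ v₂ l₂ h₂ h22]
  simp only [LinearMap.mem_ker, T, LinearMap.prod_apply, Function.prod, Prod.ext_iff, LinearMap.comp_apply,
    AlgHom.toLinearMap_apply, Submodule.subtype_apply, Prod.fst_zero, Prod.snd_zero]

theorem finrank_slot (W : Submodule k V) (v : V) (hv : v ∈ W) (l : Module.Dual k V) (hl : l v = 1) :
    Module.finrank k (k × Module.Dual k (W ⊓ LinearMap.ker l : Submodule k V)) = Module.finrank k W := by
  have h := LinearMap.finrank_range_add_finrank_ker (l ∘ₗ W.subtype)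
  have hr : LinearMap.range (l ∘ₗ W.subtype) = ⊤ :=
    LinearMap.range_eq_top.2 fun c => ⟨c • ⟨v, hv⟩, by simp [hl]⟩
  have hk : (LinearMap.ker (l ∘ₗ W.subtype)).map W.subtype = W ⊓ LinearMap.ker l := by
    rw [LinearMap.ker_comp, Submodule.map_comap_subtype]
  rw [hr, finrank_top, Module.finrank_self, ← Submodule.finrank_map_subtype_eq, hk] at h
  rw [Module.finrank_prod, Module.finrank_self, Subspace.dual_finrank_eq]
  exact h

end Groth.L28.Tangency
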